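import Groth.Agent.H7Flat.LocalCriterion
import Groth.Agent.H24Adic.CompletionNoetherian
import Groth.Prelude.Def_FSch3
import Mathlib.RingTheory.AdicCompletion.Noetherian
import Mathlib.RingTheory.RingHom.Flat

/-!
Flatness over Noetherian rings checked modulo powers of an ideal in the Jacobson radical.
-/

universe u

open TensorProduct

set_option linter.style.haveILetI false

namespace Groth.Agent.H24Flat

theorem flat_of_flat_quotient_pow {R S M : Type u} [CommRing R] [IsNoetherianRing R] [CommRing S]
    [IsNoetherianRing S] [Algebra R S] [AddCommGroup M] [Module R M] [Module S M] [IsScalarTower R S M]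
    [Module.Finite S M] (I : Ideal R) (hjac : I.map (algebraMap R S) ≤ (⊥ : Ideal S).jacobson)
    (h : ∀ n : ℕ, Module.Flat (R ⧸ I ^ n) ((R ⧸ I ^ n) ⊗[R] M)) : Module.Flat R M := by
  rw [Module.Flat.iff_lTensor_injective']
  intro J
  rw [injective_iff_map_eq_zero]
  intro x hx
  obtain ⟨a, ha, hax⟩ := H7Flat.exists_one_add_smul_eq_zero_of_ker (S := S) I J (fun n P => by
    haveI := h n
    let P' : Submodule (R ⧸ I ^ n) (R ⧸ I ^ n) :=
      { carrier := P
        add_mem' := P.add_mem
        zero_mem' := P.zero_mem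
        smul_mem' := fun c y hy => by
          obtain ⟨r, rfl⟩ := Ideal.Quotient.mk_surjective c
          exact P.smul_mem r hy }
    exact H7Flat.lTensor_injective_of_flat_quotient (M := M) (I ^ n) P'.subtype Subtype.val_injective) hx
  have hu : IsUnit (1 + a) := by
    have := Ideal.mem_jacobson_bot.mp (hjac ha) 1
    rwa [mul_one, add_comm] at this
  exact hu.smul_eq_zero.mp hax

theorem complMap_of {P T : Type u} [CommRing P] [CommRing T] (I : Ideal P) (K : Ideal T) (g : P →+* T)
    (h : I.map g ≤ K) (x : P) :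
    FSch.complMap I K g h (algebraMap P (AdicCompletion I P) x) =
      algebraMap T (AdicCompletion K T) (g x) := by
  refine AdicCompletion.ext fun n => ?_
  rfl

/-- The completion of a flat map of Noetherian rings is flat. -/
theorem flat_complMap {P T : Type u} [CommRing P] [IsNoetherianRing P] [CommRing T] [IsNoetherianRing T]
    (I : Ideal P) (g : P →+* T) (hg : g.Flat) (K : Ideal T) (h : I.map g ≤ K) (heq : K ≤ I.map g) :
    (FSch.complMap I K g h).Flat := by
  letI : Algebra P T := g.toAlgebra
  haveI : Module.Flat P T := hg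
  obtain rfl : I.map g = K := le_antisymm h heq
  let B := AdicCompletion I P
  let C := AdicCompletion (I.map g) T
  letI : Algebra B C := (FSch.complMap I (I.map g) g h).toAlgebra
  haveI : IsScalarTower P B C := IsScalarTower.of_algebraMap_eq fun x =>
    (IsScalarTower.algebraMap_apply P T C x).trans (complMap_of I (I.map g) g h x).symm
  haveI := H24Adic.isNoetherianRing_adicCompletion I
  haveI := H24Adic.isNoetherianRing_adicCompletion (I.map g)
  have hKfg : (I.map g).FG := IsNoetherian.noetherian _
  haveI := AdicCompletion.isAdicComplete_self _ hKfg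
  let J : Ideal B := I.map (algebraMap P B)
  have hJC : J.map (algebraMap B C) = (I.map g).map (algebraMap T C) := by
    rw [Ideal.map_map, Ideal.map_map, ← IsScalarTower.algebraMap_eq]
    rfl
  change Module.Flat B C
  refine flat_of_flat_quotient_pow (S := C) J (by rw [hJC]; exact IsAdicComplete.le_jacobson_bot _) fun n => ?_
  let Bn := B ⧸ J ^ n
  have hsurj : Function.Surjective (algebraMap P Bn) := fun z => by
    obtain ⟨x, rfl⟩ := Ideal.Quotient.mk_surjective z
    obtain ⟨p, hp⟩ := H24Adic.exists_sub_of_mem (IsNoetherian.noetherian I) n x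
    rw [Ideal.map_pow] at hp
    exact ⟨p, (Ideal.Quotient.eq.mpr hp).symm⟩
  let ι : T →ₗ[P] C := (IsScalarTower.toAlgHom P T C).toLinearMap
  let Γ : Bn ⊗[P] T →ₗ[Bn] Bn ⊗[B] C := AlgebraTensorModule.lift
    ((LinearMap.flip (((TensorProduct.mk B Bn C).restrictScalars₁₂ P P).flip ∘ₗ ι)).extendScalarsOfSurjective hsurj)
  have hΓ : ∀ (b : Bn) (x : T), Γ (b ⊗ₜ x) = b ⊗ₜ algebraMap T C x := fun b x => rfl
  have hn : ∀ c : C, c ∈ (J ^ n • ⊤ : Submodule B C) ↔ c ∈ ((I.map g) ^ n).map (algebraMap T C) := by
    intro c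
    rw [Ideal.smul_top_eq_map, Submodule.restrictScalars_mem, Ideal.map_pow, hJC, ← Ideal.map_pow]
  have hbij : Function.Bijective Γ := by
    constructor
    · rw [injective_iff_map_eq_zero]
      intro z hz
      obtain ⟨x, rfl⟩ := TensorProduct.mk_surjective P T Bn hsurj z
      rw [TensorProduct.mk_apply, hΓ] at hz
      have h1 := congrArg (TensorProduct.quotTensorEquivQuotSMul C (J ^ n)) hz
      rw [map_zero, TensorProduct.quotTensorEquivQuotSMul_mk_one_tmul, Submodule.Quotient.mk_eq_zero, hn] at h1
      have h3 : AdicCompletion.evalₐ (I.map g) n (algebraMap T C x) = 0 := by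
        refine (Ideal.map_le_iff_le_comap (K := RingHom.ker (AdicCompletion.evalₐ (I.map g) n))).mpr (fun a ha => ?_) h1
        rw [Ideal.mem_comap, RingHom.mem_ker, AlgHom.commutes]
        exact Ideal.Quotient.eq_zero_iff_mem.mpr ha
      rw [AlgHom.commutes] at h3
      have h4 : x ∈ (I ^ n).map g := by
        rw [Ideal.map_pow]
        exact Ideal.Quotient.eq_zero_iff_mem.mp h3
      rw [TensorProduct.mk_apply]
      have h5 : ∀ y ∈ (I ^ n • ⊤ : Submodule P T), (1 : Bn) ⊗ₜ[P] y = 0 := fun y hy => by
        refine Submodule.smul_induction_on hy (fun a ha b _ => ?_) fun a b ha hb => ?_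
        · have h6 : algebraMap P Bn a = 0 := by
            rw [IsScalarTower.algebraMap_apply P B Bn]
            exact Ideal.Quotient.eq_zero_iff_mem.mpr (by rw [← Ideal.map_pow]; exact Ideal.mem_map_of_mem _ ha)
          rw [TensorProduct.tmul_smul, TensorProduct.smul_tmul', Algebra.smul_def, h6, zero_mul, TensorProduct.zero_tmul]
        · rw [TensorProduct.tmul_add, ha, hb, add_zero]
      refine h5 x ?_
      rw [Ideal.smul_top_eq_map]
      exact h4
    · intro z
      obtain ⟨c, rfl⟩ := TensorProduct.mk_surjective B C Bn Ideal.Quotient.mk_surjective z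
      obtain ⟨x, hx⟩ := H24Adic.exists_sub_of_mem hKfg n c
      refine ⟨1 ⊗ₜ x, ?_⟩
      rw [hΓ, TensorProduct.mk_apply, eq_comm, ← sub_eq_zero, ← TensorProduct.tmul_sub,
        ← TensorProduct.quotTensorEquivQuotSMul_symm_mk, (Submodule.Quotient.mk_eq_zero _).mpr, map_zero]
      rw [hn]
      exact hx
  exact Module.Flat.of_linearEquiv (LinearEquiv.ofBijective Γ hbij).symm

end Groth.Agent.H24Flat
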