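import Mathlib.RingTheory.Flat.Equalizer
import Mathlib.RingTheory.Flat.Tensor
import Mathlib.RingTheory.Flat.Stability
import Mathlib.RingTheory.Flat.Localization
import Mathlib.RingTheory.Localization.BaseChange
import Mathlib.RingTheory.Localization.Away.Basic
import Mathlib.RingTheory.Regular.IsSMulRegular
import Mathlib.LinearAlgebra.TensorProduct.Quotient
import Mathlib.Algebra.Module.Projective
import Mathlib.Algebra.Module.Torsion.Basic

/-!
Flatness tested modulo a regular element and after inverting it.
-/

universe u v w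

open TensorProduct

set_option linter.style.haveILetI false

namespace Groth.Agent.H24Flat

variable {A : Type u} [CommRing A] {π : A} {M : Type v} [AddCommGroup M] [Module A M]

section Resolution

variable {G F : Type*} [AddCommGroup G] [Module A G] [AddCommGroup F] [Module A F]
  {i : G →ₗ[A] F} {p : F →ₗ[A] M}

theorem lTensor_injective_of_flat_mod (hi : Function.Injective i) (hex : Function.Exact i p)
    (hp : Function.Surjective p) (hπ : IsSMulRegular M π)
    {Ab : Type*} [CommRing Ab] [Algebra A Ab] (hs : Function.Surjective (algebraMap A Ab))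
    (hker : RingHom.ker (algebraMap A Ab) = Ideal.span {π}) [Module.Flat Ab (Ab ⊗[A] M)]
    (Nb : Type*) [AddCommGroup Nb] [Module A Nb] [Module Ab Nb] [IsScalarTower A Ab Nb] :
    Function.Injective (i.lTensor Nb) := by
  have hib : Function.Injective (i.baseChange Ab) := by
    rw [injective_iff_map_eq_zero]
    intro z hz
    obtain ⟨g, rfl⟩ := TensorProduct.mk_surjective A G Ab hs z
    rw [TensorProduct.mk_apply, LinearMap.baseChange_tmul] at hz
    have h1 : i g ∈ (Ideal.span {π} • ⊤ : Submodule A F) := by
      have hxe : Function.Exact ((Ideal.span {π}).subtype.rTensor F)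
          ((Algebra.linearMap A Ab).rTensor F) :=
        rTensor_exact F (fun x => by
          rw [Algebra.linearMap_apply, ← RingHom.mem_ker, hker]
          exact ⟨fun h => ⟨⟨x, h⟩, rfl⟩, fun ⟨y, hy⟩ => hy ▸ y.2⟩) hs
      obtain ⟨w, hw⟩ := (hxe ((1 : A) ⊗ₜ i g)).mp (by
        rw [LinearMap.rTensor_tmul, Algebra.linearMap_apply, map_one]; exact hz)
      rw [← one_smul A (i g), ← TensorProduct.lid_tmul (i g) (1 : A), ← hw]
      clear hw
      induction w using TensorProduct.induction_on with
      | zero => simp
      | tmul x m =>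
        rw [LinearMap.rTensor_tmul, TensorProduct.lid_tmul]
        exact Submodule.smul_mem_smul x.2 trivial
      | add x y hx hy => rw [map_add, map_add]; exact add_mem hx hy
    rw [Submodule.ideal_span_singleton_smul, Submodule.mem_smul_pointwise_iff_exists] at h1
    obtain ⟨f, -, hf⟩ := h1
    have h2 : p f = 0 := by
      refine hπ ?_
      change π • p f = π • 0
      rw [← map_smul, hf, smul_zero]
      exact (hex _).mpr ⟨g, rfl⟩
    obtain ⟨g', hg'⟩ := (hex f).mp h2
    have hg : g = π • g' := hi (by rw [map_smul, hg', hf])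
    rw [TensorProduct.mk_apply, hg, TensorProduct.tmul_smul, smul_tmul', Algebra.smul_def, mul_one,
      show algebraMap A Ab π = 0 from RingHom.mem_ker.mp (hker ▸ Ideal.mem_span_singleton_self π),
      TensorProduct.zero_tmul]
  have hexb : Function.Exact (i.baseChange Ab) (p.baseChange Ab) := lTensor_exact Ab hex hp
  have hinj := LinearMap.lTensor_injective_of_exact_of_flat (p.baseChange Ab)
    (LinearMap.lTensor_surjective Ab hp) (i.baseChange Ab) hib hexb Nb
  have hsq : ∀ w, AlgebraTensorModule.cancelBaseChange A Ab Ab Nb F ((i.baseChange Ab).lTensor Nb w) =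
      i.lTensor Nb (AlgebraTensorModule.cancelBaseChange A Ab Ab Nb G w) := by
    intro w
    induction w using TensorProduct.induction_on with
    | zero => simp
    | tmul x y =>
      induction y using TensorProduct.induction_on with
      | zero => simp
      | tmul a b => simp
      | add y₁ y₂ h₁ h₂ => simp only [TensorProduct.tmul_add, map_add, h₁, h₂]
    | add w₁ w₂ h₁ h₂ => simp only [map_add, h₁, h₂]
  rw [injective_iff_map_eq_zero]
  intro z hz
  obtain ⟨w, rfl⟩ := (AlgebraTensorModule.cancelBaseChange A Ab Ab Nb G).surjective z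
  rw [← hsq, LinearEquiv.map_eq_zero_iff] at hz
  rw [(injective_iff_map_eq_zero _).mp hinj w hz, map_zero]

theorem isSMulRegular_tensor_of_resolution (hex : Function.Exact i p) (hp : Function.Surjective p)
    [Module.Flat A F] {N : Type*} [AddCommGroup N] [Module A N] (hN : IsSMulRegular N π)
    (hiN : Function.Injective (i.lTensor (N ⧸ (Ideal.span {π} • ⊤ : Submodule A N)))) :
    IsSMulRegular (N ⊗[A] M) π := by
  have hFreg : IsSMulRegular (N ⊗[A] F) π := IsSMulRegular.rTensor F hN
  have hexR : Function.Exact (i.lTensor N) (p.lTensor N) := lTensor_exact N hex hp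
  rw [isSMulRegular_iff_right_eq_zero_of_smul]
  intro y hy
  obtain ⟨f, rfl⟩ := LinearMap.lTensor_surjective N hp y
  rw [← map_smul] at hy
  obtain ⟨g, hg⟩ := (hexR _).mp hy
  have hxg : Function.Exact ((π • LinearMap.id : N →ₗ[A] N).rTensor G)
      ((Submodule.mkQ (Ideal.span {π} • ⊤ : Submodule A N)).rTensor G) := by
    refine rTensor_exact G (fun x => ?_) (Submodule.mkQ_surjective _)
    rw [Submodule.mkQ_apply, Submodule.Quotient.mk_eq_zero, Submodule.ideal_span_singleton_smul,
      Submodule.mem_smul_pointwise_iff_exists]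
    exact ⟨fun ⟨a, _, ha⟩ => ⟨a, ha⟩, fun ⟨a, ha⟩ => ⟨a, trivial, ha⟩⟩
  have h3 : i.lTensor (N ⧸ (Ideal.span {π} • ⊤ : Submodule A N))
      ((Submodule.mkQ (Ideal.span {π} • ⊤ : Submodule A N)).rTensor G g) = 0 := by
    rw [← LinearMap.comp_apply, LinearMap.lTensor_comp_rTensor, ← LinearMap.rTensor_comp_lTensor,
      LinearMap.comp_apply, hg, map_smul]
    have hk : ∀ w : (N ⧸ (Ideal.span {π} • ⊤ : Submodule A N)) ⊗[A] F, π • w = 0 := fun w => by
      induction w using TensorProduct.induction_on with
      | zero => simp
      | tmul x m =>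
        obtain ⟨x, rfl⟩ := Submodule.mkQ_surjective _ x
        rw [TensorProduct.smul_tmul', ← map_smul, Submodule.mkQ_apply,
          (Submodule.Quotient.mk_eq_zero _).mpr
            (Submodule.smul_mem_smul (Ideal.mem_span_singleton_self π) Submodule.mem_top), TensorProduct.zero_tmul]
      | add a b ha hb => rw [smul_add, ha, hb, add_zero]
    exact hk _
  obtain ⟨g', hg'⟩ := (hxg g).mp ((injective_iff_map_eq_zero _).mp hiN _ h3)
  rw [LinearMap.rTensor_smul, LinearMap.rTensor_id] at hg'
  have h5 : f = i.lTensor N g' := hFreg (by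
    change π • f = π • i.lTensor N g'
    rw [← map_smul, show π • g' = g from hg', hg])
  rw [h5]
  exact (hexR _).mpr ⟨g', rfl⟩

end Resolution

/-- If `π` is regular on `N` and on `M` and `M ⧸ π M` is flat over `A ⧸ (π)`, then `π` is regular on
`N ⊗ M`. -/
theorem isSMulRegular_tensor (hπ : IsSMulRegular M π)
    [Module.Flat (A ⧸ Ideal.span {π}) ((A ⧸ Ideal.span {π}) ⊗[A] M)]
    {N : Type w} [AddCommGroup N] [Module A N] (hN : IsSMulRegular N π) :
    IsSMulRegular (N ⊗[A] M) π := by
  have hp : Function.Surjective (Finsupp.linearCombination A (id : M → M)) :=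
    fun m => ⟨Finsupp.single m 1, by rw [Finsupp.linearCombination_single, one_smul]; rfl⟩
  refine isSMulRegular_tensor_of_resolution (LinearMap.exact_subtype_ker_map _) hp hN ?_
  exact lTensor_injective_of_flat_mod (Submodule.injective_subtype _) (LinearMap.exact_subtype_ker_map _)
    hp hπ (Ab := A ⧸ Ideal.span {π}) Ideal.Quotient.mk_surjective Ideal.mk_ker _

/-- Flatness follows from flatness modulo a regular element and flatness after inverting it. -/
theorem flat_of_flat_mod_flat_away (hπA : π ∈ nonZeroDivisors A) (hπ : IsSMulRegular M π)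
    [Module.Flat (A ⧸ Ideal.span {π}) ((A ⧸ Ideal.span {π}) ⊗[A] M)]
    [Module.Flat (Localization.Away π) (Localization.Away π ⊗[A] M)] : Module.Flat A M := by
  haveI : Module.Flat A (Localization.Away π) := IsLocalization.flat _ (Submonoid.powers π)
  haveI : Module.Flat A (Localization.Away π ⊗[A] M) := Module.Flat.trans A (Localization.Away π) _
  rw [Module.Flat.iff_lTensor_injective]
  intro J _
  rw [injective_iff_map_eq_zero]
  intro z hz
  let ι : M →ₗ[A] Localization.Away π ⊗[A] M := TensorProduct.mk A (Localization.Away π) M 1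
  haveI : IsLocalizedModule (Submonoid.powers π) (AlgebraTensorModule.rTensor A J ι) :=
    inferInstance
  have h0 : AlgebraTensorModule.rTensor A J ι z = 0 := by
    apply Module.Flat.lTensor_preserves_injective_linearMap J.subtype J.injective_subtype
    rw [map_zero]
    change (J.subtype.lTensor _) (ι.rTensor J z) = 0
    rw [← LinearMap.comp_apply, LinearMap.lTensor_comp_rTensor, ← LinearMap.rTensor_comp_lTensor,
      LinearMap.comp_apply, hz, map_zero]
  obtain ⟨⟨_, n, rfl⟩, hn⟩ :=
    (IsLocalizedModule.eq_zero_iff (Submonoid.powers π) (AlgebraTensorModule.rTensor A J ι)).mp h0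
  have hJ : IsSMulRegular J π := fun a b h => by
    refine Subtype.ext ((mul_cancel_left_mem_nonZeroDivisors hπA).mp ?_)
    exact congrArg Subtype.val h
  have hreg : IsSMulRegular (M ⊗[A] J) π := by
    intro a b h
    refine (TensorProduct.comm A M J).injective (isSMulRegular_tensor hπ hJ ?_)
    change π • _ = π • _
    rw [← map_smul, ← map_smul]
    exact congrArg _ h
  exact (hreg.pow n).right_eq_zero_of_smul hn

end Groth.Agent.H24Flat
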